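import Groth.Agent.H18.STL.RelAmpleAffine

/-!
# Restriction of local bases along an arbitrary open immersion (helper18)
-/

set_option autoImplicit false
universe u
open CategoryTheory CategoryTheory.Limits AlgebraicGeometry TopologicalSpace Opposite TensorProduct

namespace Groth.Agent.H18.STL.OI

open Groth.Agent.H18 Groth.Agent.H18.PUP Groth.Agent.H18.STL

variable {Z X : Scheme.{u}} (j : Z ⟶ X) [IsOpenImmersion j]

theorem image_preimage_le (W : X.Opens) : j ''ᵁ (j ⁻¹ᵁ W) ≤ W := by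
  rw [Scheme.Hom.image_preimage_eq_opensRange_inf]
  exact inf_le_right

/-- sections of the restriction -/
abbrev toRestrict (M : X.Modules) (V' : Z.Opens) (t : Γ(M, j ''ᵁ V')) :
    Γ(M.restrict j, V') := t

theorem smul_restrict (M : X.Modules) (V' : Z.Opens) (r : Γ(Z, V'))
    (t : Γ(M.restrict j, V')) :
    r • t = HSMul.hSMul (β := Γ(M, j ''ᵁ V')) ((j.appIso V').inv r) t := rfl

theorem mres_restrict (M : X.Modules) {V' V'' : Z.Opens} (h : V'' ≤ V')
    (t : Γ(M.restrict j, V')) :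
    mres (M.restrict j) h t = mres M (j.image_mono h) (show Γ(M, j ''ᵁ V') from t) := rfl

variable {j}

set_option backward.isDefEq.respectTransparency false in
/-- a basis of `M` over the image of `V'` is a basis of the restriction over `V'` -/
theorem isBasisOn_restrict {M : X.Modules} {V' : Z.Opens} {t : Γ(M, j ''ᵁ V')}
    (ht : IsBasisOn M (j ''ᵁ V') t) : IsBasisOn (M.restrict j) V' (toRestrict j M V' t) := by
  intro V'' hV
  have hb1 := ht (j ''ᵁ V'') (j.image_mono hV)
  have hb2 : Function.Bijective ((j.appIso V'').inv : Γ(Z, V'') → Γ(X, j ''ᵁ V'')) :=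
    ConcreteCategory.bijective_of_isIso (j.appIso V'').inv
  have : (fun r : Γ(Z, V'') => r • mres (M.restrict j) hV (toRestrict j M V' t)) =
      (fun a : Γ(X, j ''ᵁ V'') => a • mres M (j.image_mono hV) t) ∘
        ((j.appIso V'').inv : Γ(Z, V'') → Γ(X, j ''ᵁ V'')) := by
    funext r
    rfl
  rw [this]
  exact hb1.comp hb2

set_option backward.isDefEq.respectTransparency false in
/-- a basis of the restriction over `V'` is a basis of `M` over the image of `V'` -/
theorem isBasisOn_of_restrict {M : X.Modules} {V' : Z.Opens}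
    {t : Γ(M, j ''ᵁ V')} (ht : IsBasisOn (M.restrict j) V' (toRestrict j M V' t)) :
    IsBasisOn M (j ''ᵁ V') t := by
  intro V hV
  have hVU : V ≤ j.opensRange := hV.trans (j.image_le_opensRange V')
  have hV'' : j ⁻¹ᵁ V ≤ V' := by
    have := j.preimage_mono hV
    rwa [j.preimage_image_eq] at this
  have heq : j ''ᵁ (j ⁻¹ᵁ V) = V := by
    rw [Scheme.Hom.image_preimage_eq_opensRange_inf]
    exact inf_eq_right.2 hVU
  have h1 := ht (j ⁻¹ᵁ V) hV''
  have hb2 : Function.Bijective ((j.appIso (j ⁻¹ᵁ V)).hom :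
      Γ(X, j ''ᵁ (j ⁻¹ᵁ V)) → Γ(Z, j ⁻¹ᵁ V)) :=
    ConcreteCategory.bijective_of_isIso (j.appIso (j ⁻¹ᵁ V)).hom
  have h2 : Function.Bijective (fun a : Γ(X, j ''ᵁ (j ⁻¹ᵁ V)) =>
      a • mres M (j.image_mono hV'') t) := by
    have : (fun a : Γ(X, j ''ᵁ (j ⁻¹ᵁ V)) => a • mres M (j.image_mono hV'') t) =
        (fun r : Γ(Z, j ⁻¹ᵁ V) => r • mres (M.restrict j) hV'' (toRestrict j M V' t)) ∘
          ((j.appIso (j ⁻¹ᵁ V)).hom : Γ(X, j ''ᵁ (j ⁻¹ᵁ V)) → Γ(Z, j ⁻¹ᵁ V)) := by
      funext a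
      change _ = HSMul.hSMul (β := Γ(M, j ''ᵁ (j ⁻¹ᵁ V)))
        ((j.appIso (j ⁻¹ᵁ V)).inv ((j.appIso (j ⁻¹ᵁ V)).hom a))
        (mres M (j.image_mono hV'') t)
      rw [← ConcreteCategory.comp_apply, Iso.hom_inv_id]
      rfl
    rw [this]
    exact h1.comp hb2
  exact bijective_smul_congr t heq (j.image_mono hV'') h2

end Groth.Agent.H18.STL.OI
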