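import Groth.Agent.H18.STL.OI.Ample

/-!
# Ampleness of a restriction along an open immersion only depends on the image (helper18)
-/

set_option autoImplicit false
universe u
open CategoryTheory CategoryTheory.Limits AlgebraicGeometry TopologicalSpace Opposite TensorProduct

namespace Groth.Agent.H18.STL.OI

open Groth.Agent.H18 Groth.Agent.H18.PUP Groth.Agent.H18.STL

variable {Z Z' X : Scheme.{u}}

theorem compactSpace_of_range_eq (j : Z ⟶ X) [IsOpenImmersion j] (j' : Z' ⟶ X)
    [IsOpenImmersion j'] (h : Set.range j' = Set.range j) (hZ : CompactSpace Z) :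
    CompactSpace Z' := by
  have h1 : IsCompact (Set.range j) := isCompact_range j.continuous
  rw [← h, ← Set.image_univ] at h1
  exact ⟨(j'.isOpenEmbedding.isEmbedding.isCompact_iff).2 h1⟩

theorem isAmple_restrict_iff_of_range_eq {L : X.Modules} (j : Z ⟶ X) [IsOpenImmersion j]
    (j' : Z' ⟶ X) [IsOpenImmersion j'] (h : Set.range j' = Set.range j) :
    CohB1.IsAmple (L.restrict j) ↔ CohB1.IsAmple (L.restrict j') :=
  ⟨fun hL => isAmple_restrict_of_range_le j j' h.le (compactSpace_of_range_eq j j' h hL.2.1) hL,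
    fun hL => isAmple_restrict_of_range_le j' j h.ge
      (compactSpace_of_range_eq j' j h.symm hL.2.1) hL⟩

/-- ampleness of an iterated restriction -/
theorem isAmple_restrict_restrict_iff {Z'' : Scheme.{u}} {L : X.Modules} (j : Z ⟶ X)
    [IsOpenImmersion j] (l : Z'' ⟶ Z) [IsOpenImmersion l] (j' : Z' ⟶ X) [IsOpenImmersion j']
    (h : Set.range j' = Set.range (l ≫ j)) :
    CohB1.IsAmple ((L.restrict j).restrict l) ↔ CohB1.IsAmple (L.restrict j') :=
  ⟨fun hL => (isAmple_restrict_iff_of_range_eq (l ≫ j) j' h).1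
      (isAmple_of_iso ((Scheme.Modules.restrictFunctorComp l j).app L).symm hL),
    fun hL => isAmple_of_iso ((Scheme.Modules.restrictFunctorComp l j).app L)
      ((isAmple_restrict_iff_of_range_eq (l ≫ j) j' h).2 hL)⟩

/-- ampleness of the restriction of a pullback along an open immersion -/
theorem isAmple_restrict_pullback_iff {Z'' : Scheme.{u}} {L : X.Modules} (j : Z ⟶ X)
    [IsOpenImmersion j] (l : Z'' ⟶ Z) [IsOpenImmersion l] (j' : Z' ⟶ X) [IsOpenImmersion j']
    (h : Set.range j' = Set.range (l ≫ j)) :
    CohB1.IsAmple (((Scheme.Modules.pullback j).obj L).restrict l) ↔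
      CohB1.IsAmple (L.restrict j') :=
  Iff.trans
    ⟨isAmple_of_iso ((Scheme.Modules.restrictFunctor l).mapIso
        ((Scheme.Modules.restrictFunctorIsoPullback j).app L).symm),
      isAmple_of_iso ((Scheme.Modules.restrictFunctor l).mapIso
        ((Scheme.Modules.restrictFunctorIsoPullback j).app L))⟩
    (isAmple_restrict_restrict_iff j l j' h)

end Groth.Agent.H18.STL.OI
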