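import Groth.Agent.H18.STL.OI.RestrictSection

/-!
# Ampleness and restriction along an arbitrary open immersion (helper18)
-/

set_option autoImplicit false
universe u
open CategoryTheory CategoryTheory.Limits AlgebraicGeometry TopologicalSpace Opposite TensorProduct

namespace Groth.Agent.H18.STL.OI

open Groth.Agent.H18 Groth.Agent.H18.PUP Groth.Agent.H18.STL

variable {Z X : Scheme.{u}}

/-- sections of `(L^{⊗ N})|_Z` and of `(L|_Z)^{⊗ N}` correspond -/
theorem exists_transfer_restrict_tensorPow {L : X.Modules} (hL : PicF.IsInvertible L)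
    (j : Z ⟶ X) [IsOpenImmersion j] (N : ℕ) :
    (∀ s : Coh.structureModule Z ⟶ (CohB1.tensorPow L N).restrict j,
      ∃ s' : Coh.structureModule Z ⟶ CohB1.tensorPow (L.restrict j) N,
        CohB1.genLocus _ s' = CohB1.genLocus _ s) ∧
    (∀ s' : Coh.structureModule Z ⟶ CohB1.tensorPow (L.restrict j) N,
      ∃ s : Coh.structureModule Z ⟶ (CohB1.tensorPow L N).restrict j,
        CohB1.genLocus _ s = CohB1.genLocus _ s') := by
  obtain ⟨𝔘, c, e, h⟩ := exists_cover_cocycle hL
  have w₁ := (h.lpow N).restrictOI j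
  have w₂ := (h.restrictOI j).lpow N
  rw [Cover.Cocycle.restrictOI_pow] at w₁
  constructor
  · intro s
    obtain ⟨s', -, hs'⟩ := w₁.exists_transfer w₂ s
    exact ⟨s', hs'⟩
  · intro s'
    obtain ⟨s, -, hs⟩ := w₂.exists_transfer w₁ s'
    exact ⟨s, hs⟩

/-- the restriction of an ample module along a quasi-compact open immersion is ample -/
theorem isAmple_restrict {L : X.Modules} (hL : CohB1.IsAmple L) (j : Z ⟶ X) [IsOpenImmersion j]
    (hZ : CompactSpace Z) : CohB1.IsAmple (L.restrict j) := by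
  refine ⟨Groth.Agent.H67.ParaMono.isInvertible_restrict _ L hL.1, hZ, fun z => ?_⟩
  obtain ⟨k, b, hxb, hbU, hbaff⟩ :=
    exists_genLocus_nhd_of_isAmple hL j.opensRange (j z) ⟨z, rfl⟩
  obtain ⟨s', hs'⟩ := (exists_transfer_restrict_tensorPow hL.1 j (k + 1)).1 (restrictSection b j)
  have hg : CohB1.genLocus _ s' = j ⁻¹ᵁ CohB1.genLocus _ b :=
    hs'.trans (genLocus_restrictSection b)
  refine ⟨k, s', ?_, ?_⟩
  · rw [hg]; exact hxb
  · rw [hg, ← Scheme.Hom.isAffineOpen_iff_of_isOpenImmersion j,
      Scheme.Hom.image_preimage_eq_opensRange_inf, inf_eq_right.2 hbU]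
    exact hbaff

/-- if `j` is a surjective open immersion and the restriction of `L` along `j` is ample then `L`
is ample -/
theorem isAmple_of_isAmple_restrict {L : X.Modules} (j : Z ⟶ X) [IsOpenImmersion j]
    (hj : Function.Surjective j)
    (hL : CohB1.IsAmple (L.restrict j)) : CohB1.IsAmple L := by
  have hLi : PicF.IsInvertible L :=
    isInvertible_of_restrict (fun x => ⟨Z, j, inferInstance, hj x, hL.1⟩)
  have hcpt : CompactSpace X := by
    have := hL.2.1
    have h1 : IsCompact (Set.range j) := isCompact_range j.continuous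
    rw [hj.range_eq] at h1
    exact ⟨h1⟩
  refine ⟨hLi, hcpt, fun x => ?_⟩
  obtain ⟨z, rfl⟩ := hj x
  obtain ⟨k, s', hxs', haff⟩ := hL.2.2 z
  obtain ⟨s, hs⟩ := (exists_transfer_restrict_tensorPow hLi j (k + 1)).2 s'
  obtain ⟨a, ha⟩ := exists_extend_section hj s
  have hg : CohB1.genLocus _ s' = j ⁻¹ᵁ CohB1.genLocus _ a := hs.symm.trans ha
  refine ⟨k, a, ?_, ?_⟩
  · have : z ∈ j ⁻¹ᵁ CohB1.genLocus _ a := hg ▸ hxs'
    exact this
  · have hrange : j.opensRange = ⊤ := by
      ext x
      simp only [Scheme.Hom.coe_opensRange, Opens.coe_top, hj.range_eq]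
    rw [hg, ← Scheme.Hom.isAffineOpen_iff_of_isOpenImmersion j,
      Scheme.Hom.image_preimage_eq_opensRange_inf, hrange, top_inf_eq] at haff
    exact haff

/-- ampleness of the restriction along an open immersion only depends on the image -/
theorem isAmple_restrict_of_range_le {Z' : Scheme.{u}} {L : X.Modules} (j : Z ⟶ X)
    [IsOpenImmersion j] (j' : Z' ⟶ X) [IsOpenImmersion j'] (hle : Set.range j' ⊆ Set.range j)
    (hZ' : CompactSpace Z') (hL : CohB1.IsAmple (L.restrict j)) :
    CohB1.IsAmple (L.restrict j') := by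
  let l : Z' ⟶ Z := IsOpenImmersion.lift j j' hle
  have hl : l ≫ j = j' := IsOpenImmersion.lift_fac j j' hle
  haveI : IsOpenImmersion l := by
    have : IsOpenImmersion (l ≫ j) := by rw [hl]; infer_instance
    exact IsOpenImmersion.of_comp l j
  have h1 : CohB1.IsAmple ((L.restrict j).restrict l) := isAmple_restrict hL l hZ'
  exact isAmple_of_iso (((Scheme.Modules.restrictFunctorComp l j).app L).symm ≪≫
    (Scheme.Modules.restrictFunctorCongr hl).app L) h1

end Groth.Agent.H18.STL.OI
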