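import Groth.Agent.H18.STL.OI.Restrict

/-!
# Restriction of covers and cocycles along an arbitrary open immersion (helper18)
-/

set_option autoImplicit false
universe u
open CategoryTheory CategoryTheory.Limits AlgebraicGeometry TopologicalSpace Opposite TensorProduct

namespace Groth.Agent.H18.STL

open Groth.Agent.H18 Groth.Agent.H18.PUP

variable {Z X : Scheme.{u}} (j : Z ⟶ X) [IsOpenImmersion j]

/-- the restriction of a cover along an open immersion -/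
def Cover.restrictOI (𝔘 : Cover X) : Cover Z where
  ι := 𝔘.ι
  W i := j ⁻¹ᵁ 𝔘.W i
  cov x := by
    obtain ⟨i, hi⟩ := 𝔘.cov (j x)
    exact ⟨i, hi⟩

variable (𝔘 : Cover X)

namespace OI

theorem image_inf_preimage_le (i k : 𝔘.ι) :
    j ''ᵁ (j ⁻¹ᵁ 𝔘.W i ⊓ j ⁻¹ᵁ 𝔘.W k) ≤ 𝔘.W i ⊓ 𝔘.W k :=
  le_inf ((j.image_mono inf_le_left).trans (image_preimage_le j _))
    ((j.image_mono inf_le_right).trans (image_preimage_le j _))

/-- the ring homomorphism restricting functions on an overlap -/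
noncomputable def overlapRestrict (i k : 𝔘.ι) :
    Γ(X, 𝔘.W i ⊓ 𝔘.W k) →+* Γ(Z, j ⁻¹ᵁ 𝔘.W i ⊓ j ⁻¹ᵁ 𝔘.W k) :=
  (j.appIso _).hom.hom.comp (rres X (image_inf_preimage_le j 𝔘 i k)).hom

end OI

/-- the restriction of a cocycle -/
noncomputable def Cover.Cocycle.restrictOI (c : 𝔘.Cocycle) : (𝔘.restrictOI j).Cocycle :=
  fun i k => OI.overlapRestrict j 𝔘 i k (c i k)

theorem Cover.Cocycle.restrictOI_mul (c d : 𝔘.Cocycle) :
    (c * d).restrictOI j 𝔘 = c.restrictOI j 𝔘 * d.restrictOI j 𝔘 := by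
  funext i k
  exact map_mul (OI.overlapRestrict j 𝔘 i k) _ _

theorem Cover.Cocycle.restrictOI_pow (c : 𝔘.Cocycle) (n : ℕ) :
    (c ^ n).restrictOI j 𝔘 = c.restrictOI j 𝔘 ^ n := by
  funext i k
  exact map_pow (OI.overlapRestrict j 𝔘 i k) _ _

namespace OI

/-- the restriction of a family of sections over the members of a cover -/
noncomputable def restrictFamily (M : X.Modules) (β : ∀ i, Γ(M, 𝔘.W i)) :
    ∀ i, Γ(M.restrict j, (𝔘.restrictOI j).W i) :=
  fun i => toRestrict j M (j ⁻¹ᵁ 𝔘.W i) (mres M (image_preimage_le j (𝔘.W i)) (β i))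

theorem appIso_inv_overlapRestrict (i k : 𝔘.ι) (a : Γ(X, 𝔘.W i ⊓ 𝔘.W k)) :
    (j.appIso (j ⁻¹ᵁ 𝔘.W i ⊓ j ⁻¹ᵁ 𝔘.W k)).inv (overlapRestrict j 𝔘 i k a) =
      rres X (image_inf_preimage_le j 𝔘 i k) a := by
  change (j.appIso _).inv ((j.appIso _).hom (rres X (image_inf_preimage_le j 𝔘 i k) a)) = _
  rw [← ConcreteCategory.comp_apply, Iso.hom_inv_id]
  rfl

end OI

variable {𝔘}

theorem HasCocycle.restrictOI {c : 𝔘.Cocycle} {M : X.Modules} {β : ∀ i, Γ(M, 𝔘.W i)}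
    (h : HasCocycle 𝔘 c M β) :
    HasCocycle (𝔘.restrictOI j) (c.restrictOI j 𝔘) (M.restrict j)
      (OI.restrictFamily j 𝔘 M β) where
  basis i := OI.isBasisOn_restrict ((h.basis i).mono (OI.image_preimage_le j (𝔘.W i)))
  trans i k := by
    have h1 := congrArg (mres M (OI.image_inf_preimage_le j 𝔘 i k)) (h.trans i k)
    rw [mres_smul, mres_mres, mres_mres] at h1
    have h2 : mres M (j.image_mono (inf_le_right : j ⁻¹ᵁ 𝔘.W i ⊓ j ⁻¹ᵁ 𝔘.W k ≤ _))
        (mres M (OI.image_preimage_le j (𝔘.W k)) (β k)) =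
        rres X (OI.image_inf_preimage_le j 𝔘 i k) (c i k) •
          mres M (j.image_mono (inf_le_left : j ⁻¹ᵁ 𝔘.W i ⊓ j ⁻¹ᵁ 𝔘.W k ≤ _))
            (mres M (OI.image_preimage_le j (𝔘.W i)) (β i)) := by
      rw [mres_mres, mres_mres]
      exact h1
    rw [← OI.appIso_inv_overlapRestrict] at h2
    exact h2

namespace OI

/-- invertibility is local (for arbitrary open immersions) -/
theorem isInvertible_of_restrict {L : X.Modules} (hL : ∀ x : X, ∃ (Z : Scheme.{u}) (j : Z ⟶ X)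
    (_ : IsOpenImmersion j), x ∈ Set.range j ∧ PicF.IsInvertible (L.restrict j)) :
    PicF.IsInvertible L := by
  refine isInvertible_of_local_bases L (fun x => ?_)
  obtain ⟨Z, j, _, ⟨z, rfl⟩, hU⟩ := hL x
  obtain ⟨V', t, hxV', ht⟩ := exists_basis_of_isInvertible hU z
  exact ⟨j ''ᵁ V', t, ⟨z, hxV', rfl⟩, isBasisOn_of_restrict ht⟩

end OI

end Groth.Agent.H18.STL
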