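import Groth.Agent.H18.STL.OI.Restrict2

/-!
# Restriction of global sections along an open immersion and loci of generation (helper18)
-/

set_option autoImplicit false
universe u
open CategoryTheory CategoryTheory.Limits AlgebraicGeometry TopologicalSpace Opposite TensorProduct

namespace Groth.Agent.H18.STL.OI

open Groth.Agent.H18 Groth.Agent.H18.PUP Groth.Agent.H18.STL

variable {Z X : Scheme.{u}} {j : Z ⟶ X} [IsOpenImmersion j]

set_option backward.isDefEq.respectTransparency false in
theorem bijective_app_restrict_iff {M : X.Modules} (a : Coh.structureModule X ⟶ M)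
    (s : Coh.structureModule Z ⟶ M.restrict j)
    (hval : ∀ V' : Z.Opens,
      SecTwist.val s V' = toRestrict j M V' (SecTwist.val a (j ''ᵁ V')))
    (V' : Z.Opens) :
    Function.Bijective (s.app V') ↔ Function.Bijective (a.app (j ''ᵁ V')) := by
  have hb2 : Function.Bijective ((j.appIso V').inv : Γ(Z, V') → Γ(X, j ''ᵁ V')) :=
    ConcreteCategory.bijective_of_isIso (j.appIso V').inv
  have hfun : (s.app V' : Γ(Coh.structureModule Z, V') → Γ(M.restrict j, V')) =
      (a.app (j ''ᵁ V') : Γ(Coh.structureModule X, j ''ᵁ V') → Γ(M, j ''ᵁ V')) ∘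
        ((j.appIso V').inv : Γ(Z, V') → Γ(X, j ''ᵁ V')) := by
    funext r
    have h1 := app_eq_smul_val s V' r
    have h2 := app_eq_smul_val a (j ''ᵁ V') ((j.appIso V').inv r)
    rw [hval] at h1
    exact h1.trans h2.symm
  rw [hfun]
  exact ⟨fun h => (Function.Bijective.of_comp_iff _ hb2).1 h, fun h => h.comp hb2⟩

/-- the locus of generation of the restriction of a section -/
theorem genLocus_restrict_eq {M : X.Modules} (a : Coh.structureModule X ⟶ M)
    (s : Coh.structureModule Z ⟶ M.restrict j)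
    (hval : ∀ V' : Z.Opens,
      SecTwist.val s V' = toRestrict j M V' (SecTwist.val a (j ''ᵁ V'))) :
    CohB1.genLocus (M.restrict j) s = j ⁻¹ᵁ CohB1.genLocus M a := by
  ext x'
  change x' ∈ CohB1.genLocus (M.restrict j) s ↔ j x' ∈ CohB1.genLocus M a
  rw [mem_genLocus_iff, mem_genLocus_iff]
  constructor
  · rintro ⟨V', hxV', hV'⟩
    refine ⟨j ''ᵁ V', ⟨x', hxV', rfl⟩, fun V₁ hV₁ => ?_⟩
    have hV₁U : V₁ ≤ j.opensRange := hV₁.trans (j.image_le_opensRange V')
    have hle : j ⁻¹ᵁ V₁ ≤ V' := by
      have := j.preimage_mono hV₁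
      rwa [j.preimage_image_eq] at this
    have heq : j ''ᵁ (j ⁻¹ᵁ V₁) = V₁ := by
      rw [Scheme.Hom.image_preimage_eq_opensRange_inf]
      exact inf_eq_right.2 hV₁U
    have h1 := (bijective_app_restrict_iff a s hval _).1 (hV' _ hle)
    exact (Groth.Agent.H67.GenLocusAffine.bijective_app_congr a heq).1 h1
  · rintro ⟨V, hxV, hV⟩
    refine ⟨j ⁻¹ᵁ V, hxV, fun V'' hV'' => ?_⟩
    refine (bijective_app_restrict_iff a s hval _).2 (hV _ ?_)
    exact (j.image_mono hV'').trans (image_preimage_le j V)

/-- the restriction of a global section to an open subscheme -/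
noncomputable def restrictSection {M : X.Modules} (a : Coh.structureModule X ⟶ M)
    (j : Z ⟶ X) [IsOpenImmersion j] :
    Coh.structureModule Z ⟶ M.restrict j :=
  sectionHom (M.restrict j) (toRestrict j M ⊤ (SecTwist.val a (j ''ᵁ ⊤)))

theorem val_restrictSection {M : X.Modules} (a : Coh.structureModule X ⟶ M)
    (V' : Z.Opens) :
    SecTwist.val (restrictSection a j) V' = toRestrict j M V' (SecTwist.val a (j ''ᵁ V')) := by
  rw [restrictSection, val_sectionHom]
  exact mres_val a (j.image_mono (le_top : V' ≤ ⊤))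

theorem genLocus_restrictSection {M : X.Modules} (a : Coh.structureModule X ⟶ M) :
    CohB1.genLocus (M.restrict j) (restrictSection a j) = j ⁻¹ᵁ CohB1.genLocus M a :=
  genLocus_restrict_eq a _ (val_restrictSection a)

/-- when `U` is everything, sections over `U` extend -/
theorem exists_extend_section (hU : Function.Surjective j) {M : X.Modules}
    (s : Coh.structureModule Z ⟶ M.restrict j) :
    ∃ a : Coh.structureModule X ⟶ M,
      CohB1.genLocus (M.restrict j) s = j ⁻¹ᵁ CohB1.genLocus M a := by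
  have htop : (⊤ : X.Opens) ≤ j ''ᵁ ⊤ := by
    rintro x -
    obtain ⟨z, rfl⟩ := hU x
    exact ⟨z, trivial, rfl⟩
  let σ : Γ(M, (⊤ : X.Opens)) := mres M htop (show Γ(M, j ''ᵁ ⊤) from SecTwist.val s ⊤)
  refine ⟨sectionHom M σ, genLocus_restrict_eq _ s (fun V' => ?_)⟩
  rw [val_sectionHom]
  change _ = mres M _ (mres M htop (show Γ(M, j ''ᵁ ⊤) from SecTwist.val s ⊤))
  rw [mres_mres]
  exact (mres_val s (le_top : V' ≤ ⊤)).symm

end Groth.Agent.H18.STL.OI
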